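import Mathlib

/-!
# Universal injectivity of maps into projective modules over a local ring
-/

set_option autoImplicit false
set_option linter.style.haveILetI false

universe u

open IsLocalRing TensorProduct

namespace Groth.Agent.UnivInjProj

variable {R : Type u} [CommRing R] [IsLocalRing R] {M : Type u} [AddCommGroup M] [Module R M] [Module.Projective R M]

theorem exists_retraction {F : Type u} [AddCommGroup F] [Module R F] [Module.Finite R F] (v : F →ₗ[R] M)
    (h : ∀ x, v x ∈ maximalIdeal R • (⊤ : Submodule R M) → x ∈ maximalIdeal R • (⊤ : Submodule R F)) :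
    ∃ π : M →ₗ[R] F, Function.Bijective (π ∘ₗ v) := by
  let m := maximalIdeal R
  letI : Field (R ⧸ m) := Ideal.Quotient.field m
  let vbar : F ⧸ m • (⊤ : Submodule R F) →ₗ[R] M ⧸ m • (⊤ : Submodule R M) :=
    Submodule.mapQ _ _ v (Submodule.smul_top_le_comap_smul_top _ _)
  have hinj : Function.Injective vbar := by
    rw [← LinearMap.ker_eq_bot, LinearMap.ker_eq_bot']
    intro z hz
    obtain ⟨x, rfl⟩ := Submodule.Quotient.mk_surjective _ z
    rw [Submodule.mapQ_apply, Submodule.Quotient.mk_eq_zero] at hz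
    exact (Submodule.Quotient.mk_eq_zero _).2 (h x hz)
  let vk : F ⧸ m • (⊤ : Submodule R F) →ₗ[R ⧸ m] M ⧸ m • (⊤ : Submodule R M) :=
    LinearMap.extendScalarsOfSurjective (R := R) Ideal.Quotient.mk_surjective vbar
  obtain ⟨r, hr⟩ := vk.exists_leftInverse_of_injective (LinearMap.ker_eq_bot.2 hinj)
  obtain ⟨π, hπ⟩ := Module.projective_lifting_property (m • (⊤ : Submodule R F)).mkQ
    ((r.restrictScalars R) ∘ₗ (m • (⊤ : Submodule R M)).mkQ) (Submodule.mkQ_surjective _)
  refine ⟨π, OrzechProperty.bijective_of_surjective_endomorphism _ ?_⟩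
  rw [← LinearMap.range_eq_top, ← top_le_iff]
  refine Submodule.le_of_le_smul_of_le_jacobson_bot Module.Finite.fg_top (maximalIdeal_le_jacobson _) fun x _ => ?_
  have h1 : Submodule.Quotient.mk (π (v x)) = (Submodule.Quotient.mk x : F ⧸ m • (⊤ : Submodule R F)) :=
    (LinearMap.congr_fun hπ (v x)).trans (LinearMap.congr_fun hr (Submodule.Quotient.mk x))
  have h2 : π (v x) - x ∈ m • (⊤ : Submodule R F) := (Submodule.Quotient.eq _).1 h1
  rw [show x = (π ∘ₗ v) x + -(π (v x) - x) by simp]
  exact Submodule.add_mem_sup (LinearMap.mem_range_self _ x) (neg_mem h2)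

theorem univInj {N : Type u} [AddCommGroup N] [Module R N] [Module.Free R N] (u : N →ₗ[R] M)
    (h : ∀ n, u n ∈ maximalIdeal R • (⊤ : Submodule R M) → n ∈ maximalIdeal R • (⊤ : Submodule R N))
    (Q : Type u) [AddCommGroup Q] [Module R Q] : Function.Injective (u.lTensor Q) := by
  classical
  let b := Module.Free.chooseBasis R N
  rw [← LinearMap.ker_eq_bot, LinearMap.ker_eq_bot']
  intro z hz
  obtain ⟨c, hc⟩ := (TensorProduct.equivFinsuppOfBasisRight (M := Q) b).symm.surjective z
  let j : (c.support → R) →ₗ[R] N := Fintype.linearCombination R fun i : c.support => b i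
  let p : N →ₗ[R] (c.support → R) := LinearMap.pi fun i => b.coord i
  have hpj : p ∘ₗ j = LinearMap.id := by
    refine LinearMap.ext fun a => funext fun i => ?_
    simp [p, j, Fintype.linearCombination_apply, Finsupp.single_apply, Subtype.coe_inj]
  obtain ⟨π, hπ⟩ := exists_retraction (u ∘ₗ j) fun x hx => by
    rw [show x = p (j x) from (LinearMap.congr_fun hpj x).symm]
    exact Submodule.smul_top_le_comap_smul_top _ p (h _ hx)
  have hzr : z ∈ LinearMap.range (j.lTensor Q) := by
    refine ⟨∑ i : c.support, c i ⊗ₜ[R] Pi.single i 1, ?_⟩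
    rw [map_sum, ← hc, TensorProduct.equivFinsuppOfBasisRight_symm_apply, Finsupp.sum, ← Finset.sum_attach c.support]
    refine Finset.sum_congr rfl fun i _ => ?_
    simp [j]
  obtain ⟨w, rfl⟩ := hzr
  have hb : Function.Injective (((LinearEquiv.ofBijective _ hπ).lTensor Q) : Q ⊗[R] (c.support → R) → _) :=
    LinearEquiv.injective _
  have hw : w = 0 := by
    refine hb ?_
    rw [map_zero]
    show (LinearMap.lTensor Q (π ∘ₗ (u ∘ₗ j))) w = 0
    rw [LinearMap.lTensor_comp_apply, LinearMap.lTensor_comp_apply, hz, map_zero]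
  rw [hw, map_zero]

end Groth.Agent.UnivInjProj
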